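import Mathlib

set_option autoImplicit false

namespace Cfsg.Agent.Helper95.Syl2

open MulAction Subgroup Equiv
open scoped Pointwise

variable {α : Type*} [Fintype α] [DecidableEq α]

/-- In a `2`-group of permutations, every point lies in blocks of all `2`-power sizes up to the
size of its orbit. -/
theorem exists_block (H : Subgroup (Perm α)) (hH : IsPGroup 2 H) (ω : α) (m : ℕ)
    (hm : 2 ^ m ≤ (orbit H ω).ncard) :
    ∃ B : Set α, ω ∈ B ∧ B.ncard = 2 ^ m ∧ IsBlock H B := by
  classical
  haveI : Fact (Nat.Prime 2) := ⟨Nat.prime_two⟩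
  obtain ⟨e, he⟩ := IsPGroup.iff_card.mp hH
  have hstab : IsPGroup 2 (stabilizer H ω) := hH.to_subgroup _
  obtain ⟨d, hd⟩ := IsPGroup.iff_card.mp hstab
  -- orbit size
  have horb : (orbit H ω).ncard = (stabilizer H ω).index := (index_stabilizer H ω).symm
  have hidx : (stabilizer H ω).index * 2 ^ d = 2 ^ e := by
    rw [← hd, ← he]; exact (stabilizer H ω).index_mul_card
  have hdm : d + m ≤ e := by
    have h1 : 2 ^ m * 2 ^ d ≤ 2 ^ e := by
      rw [← hidx]; exact Nat.mul_le_mul_right _ (horb ▸ hm)
    rw [← pow_add] at h1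
    have := (Nat.pow_le_pow_iff_right (by norm_num : 1 < 2)).mp h1
    omega
  obtain ⟨K, hK, hle⟩ := Sylow.exists_subgroup_card_pow_prime_le 2
    (by rw [he]; exact pow_dvd_pow 2 hdm) (stabilizer H ω) hd (Nat.le_add_right d m)
  refine ⟨orbit K ω, mem_orbit_self ω, ?_, IsBlock.of_orbit hle⟩
  -- cardinality of the orbit of `K`
  have h1 : (orbit K ω).ncard = (stabilizer K ω).index := (index_stabilizer K ω).symm
  have h2 : stabilizer K ω = (stabilizer H ω).subgroupOf K := by
    ext k; rfl
  have h3 : (stabilizer K ω).index = (stabilizer H ω).relIndex K := by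
    rw [h2]; rfl
  have h4 : (stabilizer H ω).relIndex K * K.index = (stabilizer H ω).index :=
    relIndex_mul_index hle
  have h5 : K.index * 2 ^ (d + m) = 2 ^ e := by
    rw [← hK, ← he]; exact K.index_mul_card
  rw [h1, h3]
  have h6 : (stabilizer H ω).relIndex K * (K.index * 2 ^ d) = 2 ^ m * (K.index * 2 ^ d) := by
    calc (stabilizer H ω).relIndex K * (K.index * 2 ^ d)
        = ((stabilizer H ω).relIndex K * K.index) * 2 ^ d := by ring
      _ = 2 ^ e := by rw [h4, hidx]
      _ = K.index * 2 ^ (d + m) := h5.symm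
      _ = 2 ^ m * (K.index * 2 ^ d) := by rw [pow_add]; ring
  have hpos : 0 < K.index * 2 ^ d := by
    rcases Nat.eq_zero_or_pos (K.index * 2 ^ d) with h | h
    · rw [pow_add, ← mul_assoc, h, zero_mul] at h5
      exact absurd h5.symm (by positivity)
    · exact h
  exact Nat.eq_of_mul_eq_mul_right hpos h6

end Cfsg.Agent.Helper95.Syl2
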