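import Mathlib

set_option autoImplicit false

namespace Cfsg.Agent.Helper95.Syl2

open MulAction Subgroup Equiv
open scoped Pointwise

variable {α : Type*} [Fintype α] [DecidableEq α]

/-- length of the cycle of `x` through `ω` -/
noncomputable def len (x : Perm α) (ω : α) : ℕ := Function.minimalPeriod (⇑x) ω

omit [Fintype α] [DecidableEq α] in
theorem isPeriodicPt_iff (x : Perm α) (n : ℕ) (ω : α) :
    Function.IsPeriodicPt (⇑x) n ω ↔ (x ^ n) ω = ω := by
  unfold Function.IsPeriodicPt Function.IsFixedPt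
  rw [Equiv.Perm.iterate_eq_pow]

omit [Fintype α] [DecidableEq α] in
theorem pow_apply_eq_iff (x : Perm α) (n : ℕ) (ω : α) : (x ^ n) ω = ω ↔ len x ω ∣ n := by
  rw [← isPeriodicPt_iff]
  exact Function.isPeriodicPt_iff_minimalPeriod_dvd

omit [DecidableEq α] in
theorem len_dvd_orderOf (x : Perm α) (ω : α) : len x ω ∣ orderOf x := by
  rw [← pow_apply_eq_iff, pow_orderOf_eq_one]; rfl

omit [DecidableEq α] in
theorem len_pos (x : Perm α) (ω : α) : 0 < len x ω :=
  Nat.pos_of_dvd_of_pos (len_dvd_orderOf x ω) (orderOf_pos x)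

omit [DecidableEq α] in
theorem len_eq_one_iff (x : Perm α) (ω : α) : len x ω = 1 ↔ x ω = ω := by
  have := pow_apply_eq_iff x 1 ω
  rw [pow_one, Nat.dvd_one] at this
  exact this.symm

omit [DecidableEq α] in
theorem len_apply_pow (x : Perm α) (t : ℕ) (ω : α) : len x ((x ^ t) ω) = len x ω := by
  apply Nat.dvd_antisymm
  · rw [← pow_apply_eq_iff]
    have h := (pow_apply_eq_iff x (len x ω) ω).mpr dvd_rfl
    rw [← Perm.mul_apply, ← pow_add, add_comm, pow_add, Perm.mul_apply, h]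
  · rw [← pow_apply_eq_iff]
    have h := (pow_apply_eq_iff x (len x ((x ^ t) ω)) ((x ^ t) ω)).mpr dvd_rfl
    rw [← Perm.mul_apply, ← pow_add, add_comm, pow_add, Perm.mul_apply] at h
    exact (x ^ t).injective h

omit [DecidableEq α] in
theorem len_pow (x : Perm α) (s : ℕ) (hs : s ≠ 0) (ω : α) :
    len (x ^ s) ω = len x ω / Nat.gcd (len x ω) s := by
  unfold len
  rw [← Function.minimalPeriod_iterate_eq_div_gcd hs, Equiv.Perm.iterate_eq_pow]

omit [DecidableEq α] in
theorem mem_orbit_iff (x : Perm α) (ω ω' : α) :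
    ω' ∈ orbit (zpowers x) ω ↔ ∃ t : ℕ, (x ^ t) ω = ω' := by
  constructor
  · rintro ⟨⟨g, hg⟩, rfl⟩
    rw [← mem_powers_iff_mem_zpowers] at hg
    obtain ⟨t, rfl⟩ := hg
    exact ⟨t, rfl⟩
  · rintro ⟨t, rfl⟩
    exact ⟨⟨x ^ t, pow_mem (mem_zpowers x) t⟩, rfl⟩

omit [DecidableEq α] in
theorem ncard_orbit (x : Perm α) (ω : α) : (orbit (zpowers x) ω).ncard = len x ω := by
  classical
  have h := MulAction.minimalPeriod_eq_card (a := x) (b := ω)
  have h2 : (fun a : α => x • a) = ⇑x := by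
    funext a; rfl
  rw [h2] at h
  unfold len
  rw [h, ← Nat.card_eq_fintype_card, Nat.card_coe_set_eq]

omit [DecidableEq α] in
theorem len_eq_of_mem_orbit (x : Perm α) {ω ω' : α} (h : ω' ∈ orbit (zpowers x) ω) :
    len x ω' = len x ω := by
  obtain ⟨t, rfl⟩ := (mem_orbit_iff x ω ω').mp h
  exact len_apply_pow x t ω

omit [DecidableEq α] in
theorem orbit_pow_subset (x : Perm α) (s : ℕ) (ω : α) :
    orbit (zpowers (x ^ s)) ω ⊆ orbit (zpowers x) ω := by
  intro ω' h
  obtain ⟨t, rfl⟩ := (mem_orbit_iff (x ^ s) ω ω').mp h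
  rw [← pow_mul]
  exact (mem_orbit_iff x ω _).mpr ⟨s * t, rfl⟩

omit [DecidableEq α] in
theorem smul_orbit_pow (x : Perm α) (s t : ℕ) (ω : α) :
    (x ^ t) • orbit (zpowers (x ^ s)) ω = orbit (zpowers (x ^ s)) ((x ^ t) ω) := by
  ext ω'
  rw [Set.mem_smul_set]
  constructor
  · rintro ⟨y, hy, rfl⟩
    obtain ⟨k, rfl⟩ := (mem_orbit_iff (x ^ s) ω y).mp hy
    rw [mem_orbit_iff]
    refine ⟨k, ?_⟩
    rw [Perm.smul_def, ← Perm.mul_apply, ← Perm.mul_apply]
    congr 1
    exact ((Commute.refl x).pow_pow s t |>.pow_left k)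
  · intro h
    obtain ⟨k, rfl⟩ := (mem_orbit_iff (x ^ s) _ ω').mp h
    refine ⟨((x ^ s) ^ k) ω, (mem_orbit_iff _ _ _).mpr ⟨k, rfl⟩, ?_⟩
    rw [Perm.smul_def, ← Perm.mul_apply, ← Perm.mul_apply]
    congr 1
    exact ((Commute.refl x).pow_pow s t |>.pow_left k).symm

/-- blocks of the cyclic group generated by `x` -/
def XB (x : Perm α) (B : Set α) : Prop :=
  ∀ t : ℕ, (x ^ t) • B = B ∨ Disjoint ((x ^ t) • B) B

omit [DecidableEq α] in
theorem xb_orbit_pow (x : Perm α) (s : ℕ) (ω : α) : XB x (orbit (zpowers (x ^ s)) ω) := by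
  intro t
  rw [smul_orbit_pow]
  exact MulAction.orbit.eq_or_disjoint _ _

omit [DecidableEq α] in
theorem xb_singleton (x : Perm α) (ω : α) : XB x {ω} := by
  intro t
  rw [Set.smul_set_singleton]
  by_cases h : (x ^ t) • ω = ω
  · left; rw [h]
  · right
    rw [Set.disjoint_singleton]
    exact h

omit [DecidableEq α] in
theorem smul_eq_of_closed (x : Perm α) (A : Set α) (hA : ∀ a ∈ A, x a ∈ A) (t : ℕ) :
    (x ^ t) • A = A := by
  have hsub : (x ^ t) • A ⊆ A := by
    induction t with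
    | zero => simp
    | succ n ih =>
      intro a ha
      rw [pow_succ', mul_smul] at ha
      obtain ⟨b, hb, rfl⟩ := Set.mem_smul_set.mp ha
      exact hA b (ih hb)
  apply Set.eq_of_subset_of_ncard_le hsub _ (Set.toFinite _)
  rw [Set.ncard_smul_set]

omit [DecidableEq α] in
theorem xb_of_closed (x : Perm α) (A : Set α) (hA : ∀ a ∈ A, x a ∈ A) : XB x A :=
  fun t => Or.inl (smul_eq_of_closed x A hA t)

omit [DecidableEq α] in
theorem orbit_subset_of_closed (x : Perm α) (A : Set α) (hA : ∀ a ∈ A, x a ∈ A) {ω : α}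
    (hω : ω ∈ A) : orbit (zpowers x) ω ⊆ A := by
  intro ω' h
  obtain ⟨t, rfl⟩ := (mem_orbit_iff x ω ω').mp h
  have := smul_eq_of_closed x A hA t
  rw [← this]
  exact Set.smul_mem_smul_set hω

end Cfsg.Agent.Helper95.Syl2
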