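import Mathlib
import Cfsg.Agent.Lib.Helper95.Syl2.Cycles

set_option autoImplicit false
set_option linter.unusedSectionVars false

namespace Cfsg.Agent.Helper95.Syl2

open MulAction Subgroup Equiv
open scoped Pointwise

variable {α : Type*} [Fintype α] [DecidableEq α]

/-- points on cycles of length `< 2 ^ c` -/
def Phi (x : Perm α) (c : ℕ) : Set α := {ω | len x ω < 2 ^ c}

theorem card_support_cycleOf (x : Perm α) {ω : α} (hω : x ω ≠ ω) :
    (x.cycleOf ω).support.card = len x ω := by
  have hcyc := Equiv.Perm.isCycleOn_support_cycleOf x ω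
  have hmem : ω ∈ (x.cycleOf ω).support := by
    rw [Equiv.Perm.mem_support_cycleOf_iff' hω]
  apply Nat.dvd_antisymm
  · rw [← hcyc.pow_apply_eq hmem, pow_apply_eq_iff]
  · rw [← pow_apply_eq_iff, hcyc.pow_apply_eq hmem]

theorem mem_orbit_of_len_eq (x : Perm α) (hnd : x.cycleType.Nodup) {ω ω' : α}
    (h : len x ω = len x ω') (h2 : 2 ≤ len x ω) : ω' ∈ orbit (zpowers x) ω := by
  have hω : x ω ≠ ω := by
    intro h3
    rw [← len_eq_one_iff] at h3
    omega
  have hω' : x ω' ≠ ω' := by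
    intro h3
    rw [← len_eq_one_iff] at h3
    omega
  have h1 : x.cycleOf ω ∈ x.cycleFactorsFinset :=
    Equiv.Perm.cycleOf_mem_cycleFactorsFinset_iff.mpr (Equiv.Perm.mem_support.mpr hω)
  have h1' : x.cycleOf ω' ∈ x.cycleFactorsFinset :=
    Equiv.Perm.cycleOf_mem_cycleFactorsFinset_iff.mpr (Equiv.Perm.mem_support.mpr hω')
  rw [Equiv.Perm.cycleType_def] at hnd
  have heq := Multiset.inj_on_of_nodup_map hnd _ h1 _ h1' (by
    simp only [Function.comp_apply]
    rw [card_support_cycleOf x hω, card_support_cycleOf x hω', h])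
  have hsc := (Equiv.Perm.sameCycle_iff_cycleOf_eq_of_mem_support
    (Equiv.Perm.mem_support.mpr hω) (Equiv.Perm.mem_support.mpr hω')).mpr heq
  obtain ⟨i, hi⟩ := hsc
  exact ⟨⟨x ^ i, zpow_mem (mem_zpowers x) i⟩, hi⟩

theorem ncard_len_eq_le (x : Perm α) (hnd : x.cycleType.Nodup) (j : ℕ) (hj : 1 ≤ j) :
    {ω | len x ω = 2 ^ j}.ncard ≤ 2 ^ j := by
  rcases Set.eq_empty_or_nonempty {ω | len x ω = 2 ^ j} with h | ⟨ω, hω⟩
  · rw [h, Set.ncard_empty]; positivity
  · have hω' : len x ω = 2 ^ j := hω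
    have h2 : 2 ≤ len x ω := by
      rw [hω']
      calc 2 = 2 ^ 1 := by norm_num
        _ ≤ 2 ^ j := Nat.pow_le_pow_right (by norm_num) hj
    have hsub : {ω | len x ω = 2 ^ j} ⊆ orbit (zpowers x) ω := by
      intro ω' h'
      have h'' : len x ω' = 2 ^ j := h'
      exact mem_orbit_of_len_eq x hnd (by rw [hω', h'']) h2
    calc {ω | len x ω = 2 ^ j}.ncard ≤ (orbit (zpowers x) ω).ncard :=
          Set.ncard_le_ncard hsub (Set.toFinite _)
      _ = 2 ^ j := by rw [ncard_orbit, hω']

theorem ncard_fixed_le (x : Perm α) (hfix : Fintype.card α ≤ x.support.card + 2) :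
    {ω | len x ω = 1}.ncard ≤ 2 := by
  have h1 : {ω | len x ω = 1} = ((x.supportᶜ : Finset α) : Set α) := by
    ext ω
    simp only [Set.mem_setOf_eq, Finset.coe_compl, Set.mem_compl_iff, Finset.mem_coe,
      Equiv.Perm.mem_support, not_not]
    exact len_eq_one_iff x ω
  rw [h1, Set.ncard_coe_finset, Finset.card_compl]
  omega

theorem len_eq_two_pow (x : Perm α) {a : ℕ} (hord : orderOf x = 2 ^ a) (ω : α) :
    ∃ j, j ≤ a ∧ len x ω = 2 ^ j := by
  have h := len_dvd_orderOf x ω
  rw [hord] at h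
  exact (Nat.dvd_prime_pow Nat.prime_two).mp h

theorem ncard_Phi_le (x : Perm α) {a : ℕ} (hord : orderOf x = 2 ^ a) (hnd : x.cycleType.Nodup)
    (c : ℕ) (hc : 1 ≤ c) :
    (Phi x c).ncard + 2 ≤ {ω | len x ω = 1}.ncard + 2 ^ c := by
  induction c, hc using Nat.le_induction with
  | base =>
    have h1 : Phi x 1 = {ω | len x ω = 1} := by
      ext ω
      simp only [Phi, Set.mem_setOf_eq, pow_one]
      have := len_pos x ω
      omega
    rw [h1]; norm_num
  | succ c hc ih =>
    have hsub : Phi x (c + 1) ⊆ Phi x c ∪ {ω | len x ω = 2 ^ c} := by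
      intro ω hω
      have hω' : len x ω < 2 ^ (c + 1) := hω
      obtain ⟨j, -, hj⟩ := len_eq_two_pow x hord ω
      rw [hj] at hω'
      have hjc : j < c + 1 := (Nat.pow_lt_pow_iff_right (by norm_num : 1 < 2)).mp hω'
      rcases Nat.lt_or_ge j c with h | h
      · left
        show len x ω < 2 ^ c
        rw [hj]
        exact Nat.pow_lt_pow_right (by norm_num) h
      · right
        have : j = c := by omega
        show len x ω = 2 ^ c
        rw [hj, this]
    have h1 : (Phi x (c + 1)).ncard ≤ (Phi x c).ncard + {ω | len x ω = 2 ^ c}.ncard :=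
      (Set.ncard_le_ncard hsub (Set.toFinite _)).trans (Set.ncard_union_le _ _)
    have h2 := ncard_len_eq_le x hnd c hc
    rw [pow_succ]
    omega

theorem subset_Phi_of_le (x : Perm α) {c c' : ℕ} (h : c ≤ c') : Phi x c ⊆ Phi x c' := by
  intro ω hω
  have hω' : len x ω < 2 ^ c := hω
  show len x ω < 2 ^ c'
  exact lt_of_lt_of_le hω' (Nat.pow_le_pow_right (by norm_num) h)

/-- an `x`-closed set of `2`-power size is a single cycle or a `Phi`. -/
theorem closed_two_pow (x : Perm α) {a : ℕ} (hord : orderOf x = 2 ^ a)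
    (hnd : x.cycleType.Nodup) (hfix : Fintype.card α ≤ x.support.card + 2)
    (A : Set α) (hA : ∀ a ∈ A, x a ∈ A) (c : ℕ) (hc : A.ncard = 2 ^ c) :
    (∀ ω ∈ A, A = orbit (zpowers x) ω) ∨ (A = Phi x c ∧ 1 ≤ c ∧ ∃ u ∈ A, x u = u) := by
  by_cases h : ∃ ω ∈ A, 2 ^ c ≤ len x ω
  · left
    obtain ⟨ω0, hω0, hlen⟩ := h
    have hsub := orbit_subset_of_closed x A hA hω0
    have hA0 : orbit (zpowers x) ω0 = A := by
      apply Set.eq_of_subset_of_ncard_le hsub _ (Set.toFinite _)
      rw [ncard_orbit, hc]; exact hlen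
    intro ω hω
    rw [← hA0] at hω ⊢
    exact (MulAction.orbit_eq_iff.mpr hω).symm
  · right
    push_neg at h
    have hsub : A ⊆ Phi x c := fun ω hω => h ω hω
    have hc1 : 1 ≤ c := by
      by_contra hc0
      have hc0' : c = 0 := by omega
      subst hc0'
      have hne : A.Nonempty := by
        rw [← Set.ncard_pos (Set.toFinite _), hc]; norm_num
      obtain ⟨ω, hω⟩ := hne
      have := h ω hω
      have := len_pos x ω
      omega
    have hP := ncard_Phi_le x hord hnd c hc1
    have hF := ncard_fixed_le x hfix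
    have hAP : A = Phi x c := by
      apply Set.eq_of_subset_of_ncard_le hsub _ (Set.toFinite _)
      rw [hc]; omega
    refine ⟨hAP, hc1, ?_⟩
    have hle : (Phi x c).ncard = 2 ^ c := by rw [← hAP, hc]
    have hpos : 0 < {ω | len x ω = 1}.ncard := by omega
    obtain ⟨u, hu⟩ := (Set.ncard_pos (Set.toFinite _)).mp hpos
    have hu' : len x u = 1 := hu
    refine ⟨u, ?_, (len_eq_one_iff x u).mp hu'⟩
    rw [hAP]
    show len x u < 2 ^ c
    rw [hu']
    exact Nat.one_lt_two_pow (by omega)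

end Cfsg.Agent.Helper95.Syl2
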