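import Mathlib
import Cfsg.Agent.Lib.Helper95.Syl2.Count

set_option autoImplicit false
set_option linter.unusedSectionVars false

namespace Cfsg.Agent.Helper95.Syl2

open MulAction Subgroup Equiv
open scoped Pointwise

variable {α : Type*} [Fintype α] [DecidableEq α]

/-- the union of the first `k` translates of `B` -/
def Tr (x : Perm α) (B : Set α) (k : ℕ) : Set α := {a | ∃ t < k, a ∈ (x ^ t) • B}

theorem not_disjoint_of_mem (x : Perm α) (B : Set α) (t : ℕ) {b : α} (hb : b ∈ B)
    (hb' : (x ^ t) b ∈ B) : ¬ Disjoint ((x ^ t) • B) B := by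
  rw [Set.not_disjoint_iff]
  exact ⟨(x ^ t) b, Set.smul_mem_smul_set hb, hb'⟩

/-- classification of blocks of `2`-power size -/
theorem xb_classify (x : Perm α) {a : ℕ} (hord : orderOf x = 2 ^ a)
    (hnd : x.cycleType.Nodup) (hfix : Fintype.card α ≤ x.support.card + 2)
    (B : Set α) (hB : XB x B) (m : ℕ) (hm : B.ncard = 2 ^ m) {ω : α} (hω : ω ∈ B) :
    (∃ s, s * 2 ^ m = len x ω ∧ B = orbit (zpowers (x ^ s)) ω) ∨
      (B = Phi x m ∧ ∀ a ∈ B, x a ∈ B) := by
  set f : Set α → Set α := fun S => x • S with hf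
  have hiter : ∀ t : ℕ, f^[t] B = (x ^ t) • B := by
    intro t
    have := smul_iterate (α := Set α) x t
    exact congrFun this B
  set s := Function.minimalPeriod f B with hs
  have hper : Function.IsPeriodicPt f (orderOf x) B := by
    show f^[orderOf x] B = B
    rw [hiter, pow_orderOf_eq_one, one_smul]
  have hs_dvd : s ∣ orderOf x := hper.minimalPeriod_dvd
  have hs_pos : 0 < s := Nat.pos_of_dvd_of_pos hs_dvd (orderOf_pos x)
  have key : ∀ t : ℕ, (x ^ t) • B = B ↔ s ∣ t := by
    intro t
    rw [← hiter]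
    exact Function.isPeriodicPt_iff_minimalPeriod_dvd
  have key2 : ∀ t : ℕ, ∀ b ∈ B, (x ^ t) b ∈ B → s ∣ t := by
    intro t b hb hb'
    rw [← key]
    exact (hB t).resolve_right (not_disjoint_of_mem x B t hb hb')
  obtain ⟨k, -, hk⟩ := (Nat.dvd_prime_pow Nat.prime_two).mp (hord ▸ hs_dvd)
  -- counting the translates
  have hcount : ∀ j ≤ s, (Tr x B j).ncard = j * 2 ^ m := by
    intro j
    induction j with
    | zero =>
      intro _
      have : Tr x B 0 = ∅ := by
        ext a; simp [Tr]
      rw [this, Set.ncard_empty, zero_mul]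
    | succ j ih =>
      intro hj
      have hunion : Tr x B (j + 1) = Tr x B j ∪ (x ^ j) • B := by
        ext a
        simp only [Tr, Set.mem_setOf_eq, Set.mem_union]
        constructor
        · rintro ⟨t, ht, ha⟩
          rcases Nat.lt_succ_iff_lt_or_eq.mp ht with h | h
          · exact Or.inl ⟨t, h, ha⟩
          · right; rw [← h]; exact ha
        · rintro (⟨t, ht, ha⟩ | ha)
          · exact ⟨t, Nat.lt_succ_of_lt ht, ha⟩
          · exact ⟨j, Nat.lt_succ_self j, ha⟩
      have hdisj : Disjoint (Tr x B j) ((x ^ j) • B) := by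
        rw [Set.disjoint_left]
        rintro a ⟨t, ht, ha⟩ ha'
        obtain ⟨b, hb, rfl⟩ := Set.mem_smul_set.mp ha
        obtain ⟨b', hb', hbb⟩ := Set.mem_smul_set.mp ha'
        -- b = x^(j-t) b'
        have hjt : j = t + (j - t) := by omega
        rw [hjt, pow_add, mul_smul] at hbb
        have h1 : (x ^ (j - t)) • b' = b := (x ^ t).injective hbb
        have h2 := key2 (j - t) b' hb' (by rw [← Perm.smul_def, h1]; exact hb)
        have h3 := Nat.le_of_dvd (by omega) h2
        omega
      rw [hunion, Set.ncard_union_eq hdisj (Set.toFinite _) (Set.toFinite _), ih (by omega),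
        Set.ncard_smul_set, hm]
      ring
  set A := Tr x B s with hAdef
  have hAcard : A.ncard = 2 ^ (k + m) := by
    rw [hAdef, hcount s le_rfl, hk, pow_add]
  have hAclosed : ∀ a ∈ A, x a ∈ A := by
    rintro a ⟨t, ht, ha⟩
    have h1 : x a ∈ (x ^ (t + 1)) • B := by
      rw [pow_succ', mul_smul]
      exact Set.smul_mem_smul_set (a := x) ha
    rcases Nat.lt_or_ge (t + 1) s with h | h
    · exact ⟨t + 1, h, h1⟩
    · have hts : t + 1 = s := by omega
      rw [hts, (key s).mpr dvd_rfl] at h1
      exact ⟨0, hs_pos, by simpa using h1⟩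
  have hBA : B ⊆ A := fun b hb => ⟨0, hs_pos, by simpa using hb⟩
  rcases closed_two_pow x hord hnd hfix A hAclosed (k + m) hAcard with h | ⟨hAP, -, u, hu, hxu⟩
  · left
    have hAω := h ω (hBA hω)
    refine ⟨s, ?_, ?_⟩
    · rw [← ncard_orbit, ← hAω, hAdef, hcount s le_rfl]
    · ext ω'
      constructor
      · intro hω'
        have h1 : ω' ∈ orbit (zpowers x) ω := by rw [← hAω]; exact hBA hω'
        obtain ⟨t, rfl⟩ := (mem_orbit_iff x ω ω').mp h1
        obtain ⟨j, rfl⟩ := key2 t ω hω hω'
        rw [pow_mul]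
        exact (mem_orbit_iff (x ^ s) ω _).mpr ⟨j, rfl⟩
      · intro hω'
        obtain ⟨j, rfl⟩ := (mem_orbit_iff (x ^ s) ω ω').mp hω'
        rw [← pow_mul]
        have h1 := (key (s * j)).mpr (dvd_mul_right s j)
        rw [← h1]
        exact Set.smul_mem_smul_set (a := x ^ (s * j)) hω
  · right
    obtain ⟨t, -, hut⟩ := hu
    obtain ⟨b, hb, rfl⟩ := Set.mem_smul_set.mp hut
    have hxb : x b = b := by
      have h1 : (x ^ t) (x b) = (x ^ t) b := by
        rw [← Perm.mul_apply, ← pow_succ, pow_succ', Perm.mul_apply]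
        exact hxu
      exact (x ^ t).injective h1
    have hs1 : s ∣ 1 := key2 1 b hb (by rw [pow_one, hxb]; exact hb)
    have hs1' : s = 1 := Nat.dvd_one.mp hs1
    have hAB : A = B := by
      rw [hAdef, hs1']
      ext a
      simp only [Tr, Set.mem_setOf_eq, Nat.lt_one_iff]
      constructor
      · rintro ⟨t, rfl, ha⟩
        simpa using ha
      · intro ha
        exact ⟨0, rfl, by simpa using ha⟩
    have hkm : k + m = m := by
      have h1 : (2 : ℕ) ^ (k + m) = 2 ^ m := by rw [← hAcard, hAB, hm]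
      exact Nat.pow_right_injective (le_refl 2) h1
    refine ⟨?_, ?_⟩
    · rw [← hAB, hAP, hkm]
    · rw [← hAB]; exact hAclosed

/-- two blocks of the same `2`-power size with a common point are equal -/
theorem xb_unique (x : Perm α) {a : ℕ} (hord : orderOf x = 2 ^ a)
    (hnd : x.cycleType.Nodup) (hfix : Fintype.card α ≤ x.support.card + 2)
    (B B' : Set α) (hB : XB x B) (hB' : XB x B') (m : ℕ) (hm : B.ncard = 2 ^ m)
    (hm' : B'.ncard = 2 ^ m) {ω : α} (hω : ω ∈ B) (hω' : ω ∈ B') : B = B' := by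
  rcases xb_classify x hord hnd hfix B hB m hm hω with ⟨s, hs, h1⟩ | ⟨h1, -⟩ <;>
  rcases xb_classify x hord hnd hfix B' hB' m hm' hω' with ⟨s', hs', h2⟩ | ⟨h2, -⟩
  · have : s = s' := by
      have h3 : s * 2 ^ m = s' * 2 ^ m := by rw [hs, hs']
      exact Nat.eq_of_mul_eq_mul_right (by positivity) h3
    rw [h1, h2, this]
  · exfalso
    rw [h2] at hω'
    have h3 : len x ω < 2 ^ m := hω'
    have hspos : 0 < s := by
      rcases Nat.eq_zero_or_pos s with h | h
      · rw [h, zero_mul] at hs
        have := len_pos x ω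
        omega
      · exact h
    have : 2 ^ m ≤ s * 2 ^ m := Nat.le_mul_of_pos_left _ hspos
    omega
  · exfalso
    rw [h1] at hω
    have h3 : len x ω < 2 ^ m := hω
    have hspos : 0 < s' := by
      rcases Nat.eq_zero_or_pos s' with h | h
      · rw [h, zero_mul] at hs'
        have := len_pos x ω
        omega
      · exact h
    have : 2 ^ m ≤ s' * 2 ^ m := Nat.le_mul_of_pos_left _ hspos
    omega
  · rw [h1, h2]

end Cfsg.Agent.Helper95.Syl2
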