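import Mathlib
import Cfsg.Agent.Lib.Helper95.Syl2.Blocks
import Cfsg.Agent.Lib.Helper95.Syl2.Classify

set_option autoImplicit false
set_option linter.unusedSectionVars false

namespace Cfsg.Agent.Helper95.Syl2

open MulAction Subgroup Equiv
open scoped Pointwise

variable {α : Type*} [Fintype α] [DecidableEq α]

/-- the family of blocks of `2`-power size of the cyclic group generated by `x` -/
def Fam (x : Perm α) : Set (Set α) := {B | XB x B ∧ ∃ m : ℕ, B.ncard = 2 ^ m}

theorem xb_of_isBlock (x : Perm α) (H : Subgroup (Perm α)) (hxH : x ∈ H) {B : Set α}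
    (hB : IsBlock H B) : XB x B := by
  intro t
  exact hB.smul_eq_or_disjoint (⟨x ^ t, pow_mem hxH t⟩ : H)

theorem orbit_zpowers_subset (x : Perm α) (H : Subgroup (Perm α)) (hxH : x ∈ H) (ω : α) :
    orbit (zpowers x) ω ⊆ orbit H ω := by
  intro ω' h
  obtain ⟨t, rfl⟩ := (mem_orbit_iff x ω ω').mp h
  exact ⟨⟨x ^ t, pow_mem hxH t⟩, rfl⟩

theorem ncard_orbit_two_pow (H : Subgroup (Perm α)) (hH : IsPGroup 2 H) (ω : α) :
    ∃ c : ℕ, (orbit H ω).ncard = 2 ^ c := by
  obtain ⟨c, hc⟩ := hH.card_orbit ω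
  exact ⟨c, by rw [← hc, Nat.card_coe_set_eq]⟩

theorem orbit_closed (x : Perm α) (H : Subgroup (Perm α)) (hxH : x ∈ H) (ω : α) :
    ∀ a ∈ orbit H ω, x a ∈ orbit H ω := by
  rintro a ⟨g, rfl⟩
  exact ⟨⟨x, hxH⟩ * g, by simp only [mul_smul]; rfl⟩

/-- a `2`-group containing `x` maps `Phi x m` into itself, provided it has a small orbit there. -/
theorem smul_phi (x : Perm α) {a : ℕ} (hord : orderOf x = 2 ^ a)
    (hnd : x.cycleType.Nodup) (hfix : Fintype.card α ≤ x.support.card + 2)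
    (H : Subgroup (Perm α)) (hH : IsPGroup 2 H) (hxH : x ∈ H) {h : Perm α} (hh : h ∈ H)
    (m : ℕ) {ω : α} (hω : ω ∈ Phi x m) (hsmall : (orbit H ω).ncard < 2 ^ m) :
    h • Phi x m = Phi x m := by
  have hsub : h • Phi x m ⊆ Phi x m := by
    intro ω1 hω1
    obtain ⟨ω', hω', rfl⟩ := Set.mem_smul_set.mp hω1
    obtain ⟨c', hc'⟩ := ncard_orbit_two_pow H hH ω'
    have hmem : h • ω' ∈ orbit H ω' := ⟨⟨h, hh⟩, rfl⟩
    rcases closed_two_pow x hord hnd hfix (orbit H ω') (orbit_closed x H hxH ω') c' hc' with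
      h1 | ⟨h1, -, -⟩
    · have h2 := h1 ω' (mem_orbit_self ω')
      rw [h2] at hmem
      have h3 := len_eq_of_mem_orbit x hmem
      show len x (h • ω') < 2 ^ m
      rw [h3]; exact hω'
    · rcases Nat.lt_or_ge m c' with hlt | hge
      · exfalso
        have h2 : ω ∈ orbit H ω' := by
          rw [h1]; exact subset_Phi_of_le x hlt.le hω
        have h3 : orbit H ω = orbit H ω' := MulAction.orbit_eq_iff.mpr h2
        rw [h3, hc'] at hsmall
        have := (Nat.pow_lt_pow_iff_right (by norm_num : 1 < 2)).mp hsmall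
        omega
      · rw [h1] at hmem
        exact subset_Phi_of_le x hge hmem
  apply Set.eq_of_subset_of_ncard_le hsub _ (Set.toFinite _)
  rw [Set.ncard_smul_set]

/-- every `2`-group containing `x` preserves the family `Fam x`. -/
theorem smul_mem_fam (x : Perm α) {a : ℕ} (hord : orderOf x = 2 ^ a)
    (hnd : x.cycleType.Nodup) (hfix : Fintype.card α ≤ x.support.card + 2)
    (H : Subgroup (Perm α)) (hH : IsPGroup 2 H) (hxH : x ∈ H) {h : Perm α} (hh : h ∈ H)
    {B : Set α} (hB : B ∈ Fam x) : h • B ∈ Fam x := by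
  obtain ⟨hXB, m, hm⟩ := hB
  have hne : B.Nonempty := by
    rw [← Set.ncard_pos (Set.toFinite _), hm]; positivity
  obtain ⟨ω, hω⟩ := hne
  obtain ⟨c, hc⟩ := ncard_orbit_two_pow H hH ω
  rcases Nat.lt_or_ge (2 ^ c) (2 ^ m) with hlt | hge
  · -- small orbit
    rcases xb_classify x hord hnd hfix B hXB m hm hω with ⟨s, -, h1⟩ | ⟨h1, -⟩
    · exfalso
      have h2 : B ⊆ orbit H ω := by
        rw [h1]
        exact (orbit_pow_subset x s ω).trans (orbit_zpowers_subset x H hxH ω)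
      have h3 := Set.ncard_le_ncard h2 (Set.toFinite _)
      rw [hm, hc] at h3
      omega
    · have hω' : ω ∈ Phi x m := by rw [← h1]; exact hω
      have h2 := smul_phi x hord hnd hfix H hH hxH hh m hω' (by rw [hc]; exact hlt)
      rw [h1, h2, ← h1]
      exact ⟨hXB, m, hm⟩
  · -- large orbit
    obtain ⟨B'', hω'', hm'', hblk⟩ := exists_block H hH ω m (by rw [hc]; exact hge)
    have hXB'' := xb_of_isBlock x H hxH hblk
    have heq : B = B'' := xb_unique x hord hnd hfix B B'' hXB hXB'' m hm hm'' hω hω''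
    have hblk2 : IsBlock H ((⟨h, hh⟩ : H) • B'') := IsBlock.translate _ hblk
    have hXB2 := xb_of_isBlock x H hxH hblk2
    rw [heq]
    refine ⟨hXB2, m, ?_⟩
    rw [Set.ncard_smul_set, hm'']

/-- a block in the family lies in a block of twice the size, or is closed under `x` -/
theorem fam_up_or_closed (x : Perm α) {a : ℕ} (hord : orderOf x = 2 ^ a)
    (hnd : x.cycleType.Nodup) (hfix : Fintype.card α ≤ x.support.card + 2)
    {B : Set α} (hB : XB x B) (m : ℕ) (hm : B.ncard = 2 ^ m) :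
    (∃ B' : Set α, XB x B' ∧ B'.ncard = 2 ^ (m + 1) ∧ B ⊆ B') ∨ (∀ a ∈ B, x a ∈ B) := by
  have hne : B.Nonempty := by
    rw [← Set.ncard_pos (Set.toFinite _), hm]; positivity
  obtain ⟨ω, hω⟩ := hne
  rcases xb_classify x hord hnd hfix B hB m hm hω with ⟨s, hs, h1⟩ | ⟨-, h1⟩
  · obtain ⟨j, -, hj⟩ := len_eq_two_pow x hord ω
    have hsd : s ∣ 2 ^ j := by rw [← hj, ← hs]; exact dvd_mul_right s _
    obtain ⟨i, -, hi⟩ := (Nat.dvd_prime_pow Nat.prime_two).mp hsd
    rcases Nat.eq_zero_or_pos i with h0 | hpos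
    · right
      rw [h0, pow_zero] at hi
      rw [hi, pow_one] at h1
      intro b hb
      rw [h1] at hb ⊢
      obtain ⟨t, rfl⟩ := (mem_orbit_iff x ω b).mp hb
      rw [← Perm.mul_apply, ← pow_succ']
      exact (mem_orbit_iff x ω _).mpr ⟨t + 1, rfl⟩
    · left
      obtain ⟨i', rfl⟩ : ∃ i', i = i' + 1 := ⟨i - 1, by omega⟩
      refine ⟨orbit (zpowers (x ^ (2 ^ i'))) ω, xb_orbit_pow x _ ω, ?_, ?_⟩
      · rw [ncard_orbit, len_pow x _ (by positivity)]
        have hlen : len x ω = 2 ^ i' * (2 ^ (m + 1)) := by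
          rw [← hs, hi, pow_succ, pow_succ]; ring
        rw [hlen, Nat.gcd_eq_right (dvd_mul_right _ _),
          Nat.mul_div_cancel_left _ (by positivity)]
      · rw [h1, hi]
        intro ω' hω'
        obtain ⟨t, rfl⟩ := (mem_orbit_iff _ ω ω').mp hω'
        rw [pow_succ, pow_mul, ← pow_mul]
        exact (mem_orbit_iff _ ω _).mpr ⟨2 * t, rfl⟩
  · right; exact h1

end Cfsg.Agent.Helper95.Syl2
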