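import Mathlib
import Cfsg.Agent.Lib.Helper95.Syl2.Count

set_option autoImplicit false
set_option linter.unusedSectionVars false
set_option linter.style.haveILetI false

namespace Cfsg.Agent.Helper95.Syl2

open MulAction Subgroup Equiv
open scoped Pointwise

variable {α : Type*} [Fintype α] [DecidableEq α]

/-- if `x` lies in a unique Sylow `2`-subgroup `P`, every `2`-group containing `x` lies in `P` -/
theorem le_of_unique (x : Perm α) (P : Sylow 2 (Perm α))
    (huniq : ∀ Q : Sylow 2 (Perm α), x ∈ Q → Q = P)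
    (H : Subgroup (Perm α)) (hH : IsPGroup 2 H) (hxH : x ∈ H) : H ≤ P := by
  haveI : Fact (Nat.Prime 2) := ⟨Nat.prime_two⟩
  obtain ⟨Q, hQ⟩ := hH.exists_le_sylow
  have := huniq Q (hQ hxH)
  rw [← this]; exact hQ

theorem mem_of_commute (x : Perm α) {a : ℕ} (hord : orderOf x = 2 ^ a) (P : Sylow 2 (Perm α))
    (huniq : ∀ Q : Sylow 2 (Perm α), x ∈ Q → Q = P)
    (y : Perm α) (hy : Commute y x) {j : ℕ} (hj : orderOf y = 2 ^ j) : y ∈ P := by
  haveI : Fact (Nat.Prime 2) := ⟨Nat.prime_two⟩
  have hpx : IsPGroup 2 (zpowers x) :=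
    IsPGroup.of_card (n := a) (by rw [Nat.card_zpowers, hord])
  have hpy : IsPGroup 2 (zpowers y) :=
    IsPGroup.of_card (n := j) (by rw [Nat.card_zpowers, hj])
  have hnorm : zpowers y ≤ normalizer ((zpowers x : Subgroup (Perm α)) : Set (Perm α)) := by
    rw [zpowers_le]
    apply Subgroup.centralizer_le_normalizer
    rw [Subgroup.mem_centralizer_iff]
    intro h hh
    obtain ⟨i, rfl⟩ := mem_zpowers_iff.mp hh
    exact (hy.zpow_right i).symm.eq
  have hsup := hpy.to_sup_of_normal_right' hpx hnorm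
  have hle := le_of_unique x P huniq _ hsup
    ((le_sup_right : zpowers x ≤ zpowers y ⊔ zpowers x) (mem_zpowers x))
  exact hle ((le_sup_left : zpowers y ≤ zpowers y ⊔ zpowers x) (mem_zpowers y))

theorem not_threeCycle_mem (P : Sylow 2 (Perm α)) {g : Perm α} (hg : g.IsThreeCycle) :
    g ∉ P := by
  intro hmem
  obtain ⟨k, hk⟩ := P.isPGroup' ⟨g, hmem⟩
  have h1 : g ^ 2 ^ k = 1 := by
    have := congrArg Subtype.val hk
    simpa using this
  have h2 := orderOf_dvd_of_pow_eq_one h1
  rw [hg.orderOf] at h2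
  have h3 : (3 : ℕ) ∣ 2 := (Nat.Prime.dvd_of_dvd_pow Nat.prime_three h2)
  omega

theorem orderOf_swap_eq {i j : α} (h : i ≠ j) : orderOf (swap i j) = 2 ^ 1 := by
  rw [pow_one]
  exact orderOf_eq_prime (by rw [sq, swap_mul_self]) (fun h' => h (swap_eq_one_iff.mp h'))

/-- at most two fixed points -/
theorem fixed_le_two (x : Perm α) {a : ℕ} (hord : orderOf x = 2 ^ a) (P : Sylow 2 (Perm α))
    (huniq : ∀ Q : Sylow 2 (Perm α), x ∈ Q → Q = P) :
    Fintype.card α ≤ x.support.card + 2 := by
  by_contra hcon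
  have h1 : 2 < (x.supportᶜ : Finset α).card := by
    rw [Finset.card_compl]
    have := x.support.card_le_univ
    omega
  obtain ⟨i, hi, j, hj, k, hk, hij, hik, hjk⟩ := Finset.two_lt_card.mp h1
  have fix : ∀ z ∈ (x.supportᶜ : Finset α), x z = z := by
    intro z hz
    simpa using hz
  have hcomm : ∀ u v : α, x u = u → x v = v → Commute (swap u v) x := by
    intro u v hu hv
    have := mul_swap_eq_swap_mul x u v
    rw [hu, hv] at this
    exact this.symm
  have h2 := mem_of_commute x hord P huniq (swap j i) (hcomm j i (fix j hj) (fix i hi))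
    (orderOf_swap_eq hij.symm)
  have h3 := mem_of_commute x hord P huniq (swap j k) (hcomm j k (fix j hj) (fix k hk))
    (orderOf_swap_eq hjk)
  exact not_threeCycle_mem P (Equiv.Perm.isThreeCycle_swap_mul_swap_same hij.symm hjk hik)
    (P.mul_mem h2 h3)

end Cfsg.Agent.Helper95.Syl2
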