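import Mathlib
import Cfsg.Agent.Lib.Helper95.Syl2.Fwd

set_option autoImplicit false
set_option linter.unusedSectionVars false
set_option linter.style.haveILetI false

namespace Cfsg.Agent.Helper95.Syl2

open MulAction Subgroup Equiv
open scoped Pointwise

variable {α : Type*} [Fintype α] [DecidableEq α]

theorem commute_swap_swap {a b c d : α} (hca : c ≠ a) (hcb : c ≠ b) (hda : d ≠ a) (hdb : d ≠ b) :
    Commute (swap a b) (swap c d) := by
  have := mul_swap_eq_swap_mul (swap a b) c d
  rw [swap_apply_of_ne_of_ne hca hcb, swap_apply_of_ne_of_ne hda hdb] at this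
  exact this

theorem conj_swap (g : Perm α) (a b : α) : g * swap a b * g⁻¹ = swap (g a) (g b) := by
  rw [mul_swap_eq_swap_mul, mul_inv_cancel_right]

/-- pairwise different cycle lengths -/
theorem nodup_of_unique (x : Perm α) {a : ℕ} (hord : orderOf x = 2 ^ a) (P : Sylow 2 (Perm α))
    (huniq : ∀ Q : Sylow 2 (Perm α), x ∈ Q → Q = P) : x.cycleType.Nodup := by
  haveI : Fact (Nat.Prime 2) := ⟨Nat.prime_two⟩
  by_contra hnd
  rw [Equiv.Perm.cycleType_def, Multiset.nodup_map_iff_inj_on x.cycleFactorsFinset.nodup] at hnd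
  push_neg at hnd
  obtain ⟨c1, hc1, c2, hc2, hcard, hne⟩ := hnd
  rw [Finset.mem_val] at hc1 hc2
  simp only [Function.comp_apply] at hcard
  have hcyc1 := (Equiv.Perm.mem_cycleFactorsFinset_iff.mp hc1).1
  have hcyc2 := (Equiv.Perm.mem_cycleFactorsFinset_iff.mp hc2).1
  obtain ⟨p, hp⟩ := hcyc1.nonempty_support
  obtain ⟨q, hq⟩ := hcyc2.nonempty_support
  have hp1 : c1 = x.cycleOf p := Equiv.Perm.cycle_is_cycleOf hp hc1
  have hq2 : c2 = x.cycleOf q := Equiv.Perm.cycle_is_cycleOf hq hc2
  have hxp : x p ≠ p :=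
    Equiv.Perm.mem_support.mp (Equiv.Perm.mem_cycleFactorsFinset_support_le hc1 hp)
  have hxq : x q ≠ q :=
    Equiv.Perm.mem_support.mp (Equiv.Perm.mem_cycleFactorsFinset_support_le hc2 hq)
  have hon1 := Equiv.Perm.isCycleOn_support_cycleOf x p
  have hon2 := Equiv.Perm.isCycleOn_support_cycleOf x q
  rw [← hp1] at hon1
  rw [← hq2] at hon2
  have hdisj : Equiv.Perm.Disjoint c1 c2 :=
    Equiv.Perm.cycleFactorsFinset_pairwise_disjoint x hc1 hc2 hne
  -- the swaps
  set t : ℕ → Perm α := fun i => swap ((x ^ i) p) ((x ^ i) q) with ht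
  have hsame : ∀ i j : ℕ, (x ^ i) p = (x ^ j) p ↔ (x ^ i) q = (x ^ j) q := by
    intro i j
    rw [hon1.pow_apply_eq_pow_apply hp, hon2.pow_apply_eq_pow_apply hq, hcard]
  have hdiff : ∀ i j : ℕ, (x ^ i) p ≠ (x ^ j) q := by
    intro i j h
    apply hne
    have hsc : x.SameCycle p q := by
      refine ⟨-(j : ℤ) + i, ?_⟩
      rw [zpow_add, zpow_neg, zpow_natCast, zpow_natCast, Perm.mul_apply, h]
      simp
    rw [hp1, hq2]
    exact hsc.cycleOf_eq
  have hcomm : ∀ i j : ℕ, t i * t j = t j * t i := by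
    intro i j
    by_cases h : (x ^ i) p = (x ^ j) p
    · have h' := (hsame i j).mp h
      simp only [ht, h, h']
    · have h' : (x ^ i) q ≠ (x ^ j) q := fun h2 => h ((hsame i j).mpr h2)
      exact (commute_swap_swap (Ne.symm h) (hdiff j i) (Ne.symm (hdiff i j))
        (Ne.symm h')).eq
  have hconj : ∀ m i : ℕ, x ^ m * t i * (x ^ m)⁻¹ = t (m + i) := by
    intro m i
    simp only [ht]
    rw [conj_swap, ← Perm.mul_apply, ← Perm.mul_apply, ← pow_add]
  set E : Subgroup (Perm α) := closure (Set.range t) with hE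
  have hEcomm : IsMulCommutative E := by
    apply isMulCommutative_closure
    rintro _ ⟨i, rfl⟩ _ ⟨j, rfl⟩
    exact hcomm i j
  have hE2 : ∀ g ∈ E, g * g = 1 := by
    intro g hg
    induction hg using closure_induction with
    | mem g hg =>
      obtain ⟨i, rfl⟩ := hg
      exact swap_mul_self _ _
    | one => simp
    | mul g h hg hh ihg ihh =>
      have hc : g * h = h * g := by
        have := hEcomm.is_comm.comm (⟨g, hg⟩ : E) ⟨h, hh⟩
        exact congrArg Subtype.val this
      calc g * h * (g * h) = g * (h * g) * h := by group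
        _ = g * (g * h) * h := by rw [hc]
        _ = (g * g) * (h * h) := by group
        _ = 1 := by rw [ihg, ihh, one_mul]
    | inv g hg ihg =>
      have : g⁻¹ = g := inv_eq_of_mul_eq_one_left ihg
      rw [this, ihg]
  have hEp : IsPGroup 2 E := by
    intro g
    refine ⟨1, ?_⟩
    apply Subtype.ext
    simp only [pow_one, sq, Subgroup.coe_mul, Subgroup.coe_one]
    exact hE2 g g.2
  have hconjE : ∀ m : ℕ, ∀ h ∈ E, x ^ m * h * (x ^ m)⁻¹ ∈ E := by
    intro m h hh
    induction hh using closure_induction with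
    | mem g hg =>
      obtain ⟨i, rfl⟩ := hg
      rw [hconj]
      exact Subgroup.subset_closure ⟨_, rfl⟩
    | one => simp
    | mul g h _ _ ihg ihh =>
      rw [← conj_mul]
      exact E.mul_mem ihg ihh
    | inv g _ ihg =>
      rw [← conj_inv]
      exact E.inv_mem ihg
  have hpx : IsPGroup 2 (zpowers x) :=
    IsPGroup.of_card (n := a) (by rw [Nat.card_zpowers, hord])
  have hnorm : zpowers x ≤ normalizer (E : Set (Perm α)) := by
    rw [zpowers_le, mem_normalizer_iff]
    intro h
    constructor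
    · intro hh
      have := hconjE 1 h hh
      rwa [pow_one] at this
    · intro hh
      have h1 := hconjE (orderOf x - 1) _ hh
      have hN : x ^ (orderOf x - 1) * x = 1 := by
        rw [← pow_succ, Nat.sub_add_cancel (orderOf_pos x), pow_orderOf_eq_one]
      have h2 : x ^ (orderOf x - 1) * (x * h * x⁻¹) * (x ^ (orderOf x - 1))⁻¹
          = (x ^ (orderOf x - 1) * x) * h * (x ^ (orderOf x - 1) * x)⁻¹ := by group
      rw [h2, hN] at h1
      simpa using h1
  have hsup := hpx.to_sup_of_normal_right' hEp hnorm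
  have hle := le_of_unique x P huniq _ hsup
    ((le_sup_left : zpowers x ≤ zpowers x ⊔ E) (mem_zpowers x))
  have hy : swap p q ∈ P := by
    apply hle
    apply (le_sup_right : E ≤ zpowers x ⊔ E)
    apply Subgroup.subset_closure
    exact ⟨0, by simp [ht]⟩
  -- the cycle c1 lies in P
  have hc1P : c1 ∈ P := by
    have hdvd : orderOf c1 ∣ 2 ^ a := by
      rw [← hord, hp1]; exact Equiv.Perm.orderOf_cycleOf_dvd_orderOf x p
    obtain ⟨j, -, hj⟩ := (Nat.dvd_prime_pow Nat.prime_two).mp hdvd
    exact mem_of_commute x hord P huniq c1 (Equiv.Perm.self_mem_cycle_factors_commute hc1) hj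
  have hy' : c1 * swap p q * c1⁻¹ ∈ P := P.mul_mem (P.mul_mem hc1P hy) (P.inv_mem hc1P)
  rw [conj_swap] at hy'
  have hc1p : c1 p ≠ p := Equiv.Perm.mem_support.mp hp
  have hc2q : c2 q ≠ q := Equiv.Perm.mem_support.mp hq
  have hc1q : c1 q = q := (hdisj q).resolve_right hc2q
  have hqp : q ≠ p := by
    intro h
    rw [h] at hc1q
    exact hc1p hc1q
  have hqc : q ≠ c1 p := by
    intro h
    have h1 : c1 (c1 p) ≠ c1 p := fun h2 => hc1p (c1.injective h2)
    rw [← h] at h1
    exact h1 hc1q
  rw [hc1q] at hy'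
  have h3 : swap q p * swap q (c1 p) ∈ P := by
    rw [swap_comm q p, swap_comm q (c1 p)]
    exact P.mul_mem hy hy'
  exact not_threeCycle_mem P
    (Equiv.Perm.isThreeCycle_swap_mul_swap_same hqp hqc (Ne.symm hc1p)) h3

end Cfsg.Agent.Helper95.Syl2
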