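import Mathlib
import Cfsg.Agent.Lib.Helper95.Syl2.Family

set_option autoImplicit false
set_option linter.unusedSectionVars false

namespace Cfsg.Agent.Helper95.Syl2

open MulAction Subgroup Equiv
open scoped Pointwise

variable {α : Type*} [Fintype α] [DecidableEq α]

theorem smul_eq_of_odd (x : Perm α) {a : ℕ} (hord : orderOf x = 2 ^ a)
    (hnd : x.cycleType.Nodup) (hfix : Fintype.card α ≤ x.support.card + 2)
    (g : Perm α) (hg : ∀ B : Set α, g • B ∈ Fam x ↔ B ∈ Fam x)
    (k : ℕ) (hk : Odd k) (hgk : g ^ k = 1) :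
    ∀ d m : ℕ, Fintype.card α + 1 ≤ m + d → ∀ B : Set α, XB x B → B.ncard = 2 ^ m →
      g • B = B := by
  intro d
  induction d with
  | zero =>
    intro m hm B _ hB
    exfalso
    have h1 : B.ncard ≤ Fintype.card α := by
      have := Set.ncard_le_ncard (Set.subset_univ B) (Set.toFinite _)
      rwa [Set.ncard_univ, Nat.card_eq_fintype_card] at this
    have h2 : m < 2 ^ m := Nat.lt_two_pow_self
    omega
  | succ d ih =>
    intro m hmd B hXB hm
    by_contra hne
    have P1 := ih (m + 1) (by omega)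
    have hB1 : g • B ∈ Fam x := (hg B).mpr ⟨hXB, m, hm⟩
    have hB1c : (g • B).ncard = 2 ^ m := by rw [Set.ncard_smul_set, hm]
    have hdisj : Disjoint (g • B) B := by
      by_contra hnd'
      rw [Set.not_disjoint_iff] at hnd'
      obtain ⟨ω, h1, h2⟩ := hnd'
      exact hne (xb_unique x hord hnd hfix _ _ hB1.1 hXB m hB1c hm h1 h2)
    -- a block of twice the size containing `B`
    have hup : ∃ B' : Set α, XB x B' ∧ B'.ncard = 2 ^ (m + 1) ∧ B ⊆ B' := by
      rcases fam_up_or_closed x hord hnd hfix hXB m hm with h | hcl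
      · exact h
      · rcases fam_up_or_closed x hord hnd hfix hB1.1 m hB1c with ⟨B', hX', hc', hsub⟩ | hcl1
        · refine ⟨B', hX', hc', ?_⟩
          have hgB' := P1 B' hX' hc'
          intro b hb
          have h1 : g • b ∈ B' := hsub (Set.smul_mem_smul_set hb)
          rw [← hgB'] at h1
          exact Set.smul_mem_smul_set_iff.mp h1
        · refine ⟨B ∪ g • B, ?_, ?_, Set.subset_union_left⟩
          · apply xb_of_closed
            rintro b (hb | hb)
            · exact Or.inl (hcl b hb)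
            · exact Or.inr (hcl1 b hb)
          · rw [Set.ncard_union_eq hdisj.symm (Set.toFinite _) (Set.toFinite _), hB1c, hm,
              pow_succ]
            ring
    obtain ⟨B', hX', hc', hsub⟩ := hup
    have hgB' := P1 B' hX' hc'
    have h1 : g • B ⊆ B' \ B := by
      intro b hb
      refine ⟨?_, fun hbB => Set.disjoint_left.mp hdisj hb hbB⟩
      rw [← hgB']
      exact Set.smul_set_mono hsub hb
    have h2 : g • B = B' \ B := by
      apply Set.eq_of_subset_of_ncard_le h1 _ (Set.toFinite _)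
      rw [Set.ncard_diff hsub (Set.toFinite _), hc', hm, hB1c, pow_succ]
      omega
    have h3 : g • g • B = B := by
      rw [h2, Set.smul_set_sdiff, hgB', h2, Set.diff_diff_cancel_left hsub]
    obtain ⟨j, rfl⟩ := hk
    have h4 : ∀ i : ℕ, g ^ (2 * i) • B = B := by
      intro i
      induction i with
      | zero => simp
      | succ i ihi =>
        have : 2 * (i + 1) = 2 * i + 1 + 1 := by ring
        rw [this, pow_succ, pow_succ, mul_smul, mul_smul, h3, ihi]
    apply hne
    have h5 : g ^ (2 * j + 1) • B = B := by rw [hgk, one_smul]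
    rw [pow_succ, mul_smul] at h5
    have h6 : g ^ (2 * j) • g • B = g ^ (2 * j) • B := by rw [h5, h4 j]
    exact (MulAction.injective (β := Set α) (g ^ (2 * j))) h6

theorem eq_one_of_odd (x : Perm α) {a : ℕ} (hord : orderOf x = 2 ^ a)
    (hnd : x.cycleType.Nodup) (hfix : Fintype.card α ≤ x.support.card + 2)
    (g : Perm α) (hg : ∀ B : Set α, g • B ∈ Fam x ↔ B ∈ Fam x)
    (k : ℕ) (hk : Odd k) (hgk : g ^ k = 1) : g = 1 := by
  ext ω
  have h := smul_eq_of_odd x hord hnd hfix g hg k hk hgk (Fintype.card α + 1) 0 (by omega)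
    {ω} (xb_singleton x ω) (by simp)
  rw [Set.smul_set_singleton] at h
  have := Set.singleton_eq_singleton_iff.mp h
  simpa using this

/-- the stabiliser of the family `Fam x` -/
def Tgrp (x : Perm α) : Subgroup (Perm α) where
  carrier := {g | ∀ B : Set α, g • B ∈ Fam x ↔ B ∈ Fam x}
  one_mem' := fun B => by rw [one_smul]
  mul_mem' := fun {a b} ha hb B => by rw [mul_smul, ha, hb]
  inv_mem' := fun {a} ha B => by
    have := ha (a⁻¹ • B)
    rw [smul_inv_smul] at this
    exact this.symm

theorem isPGroup_Tgrp (x : Perm α) {a : ℕ} (hord : orderOf x = 2 ^ a)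
    (hnd : x.cycleType.Nodup) (hfix : Fintype.card α ≤ x.support.card + 2) :
    IsPGroup 2 (Tgrp x) := by
  rintro ⟨g, hg⟩
  obtain ⟨k, r, hr, hkr⟩ := Nat.exists_eq_two_pow_mul_odd (orderOf_pos g).ne'
  refine ⟨k, ?_⟩
  have h1 : (g ^ (2 ^ k)) ^ r = 1 := by rw [← pow_mul, ← hkr, pow_orderOf_eq_one]
  have h2 : g ^ (2 ^ k) ∈ Tgrp x := pow_mem hg _
  have h3 := eq_one_of_odd x hord hnd hfix (g ^ (2 ^ k)) h2 r hr h1
  apply Subtype.ext
  simpa using h3

theorem le_Tgrp (x : Perm α) {a : ℕ} (hord : orderOf x = 2 ^ a)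
    (hnd : x.cycleType.Nodup) (hfix : Fintype.card α ≤ x.support.card + 2)
    (H : Subgroup (Perm α)) (hH : IsPGroup 2 H) (hxH : x ∈ H) : H ≤ Tgrp x := by
  intro h hh B
  constructor
  · intro hB
    have := smul_mem_fam x hord hnd hfix H hH hxH (H.inv_mem hh) hB
    rwa [inv_smul_smul] at this
  · intro hB
    exact smul_mem_fam x hord hnd hfix H hH hxH hh hB

/-- a `2`-element with at most two fixed points and pairwise different cycle lengths lies in a
unique Sylow `2`-subgroup -/
theorem unique_sylow (x : Perm α) {a : ℕ} (hord : orderOf x = 2 ^ a)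
    (hnd : x.cycleType.Nodup) (hfix : Fintype.card α ≤ x.support.card + 2) :
    ∃! P : Sylow 2 (Perm α), x ∈ P := by
  haveI : Fact (Nat.Prime 2) := ⟨Nat.prime_two⟩
  have hpg : IsPGroup 2 (zpowers x) :=
    IsPGroup.of_card (n := a) (by rw [Nat.card_zpowers, hord])
  obtain ⟨P, hP⟩ := hpg.exists_le_sylow
  have hT := isPGroup_Tgrp x hord hnd hfix
  have key : ∀ Q : Sylow 2 (Perm α), x ∈ Q → Tgrp x = (Q : Subgroup (Perm α)) := by
    intro Q hQ
    exact Q.is_maximal' hT (le_Tgrp x hord hnd hfix Q Q.isPGroup' hQ)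
  refine ⟨P, hP (mem_zpowers x), ?_⟩
  intro Q hQ
  apply Sylow.ext
  rw [← key Q hQ, ← key P (hP (mem_zpowers x))]

end Cfsg.Agent.Helper95.Syl2
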